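/-
The derived group of a group of type M(24), with its subgroups isomorphic to Fi23.

Main results (namespace `Cfsg.Agent.FiHeld`): `derived_fi24`, `local_fi23`.
-/
import Cfsg.Agent.Lib.FischerM24.Parity

set_option autoImplicit false

namespace Cfsg.Agent.FiHeld

open Cfsg.Agent.ThreeTrans Cfsg.Agent.ThreeTransSU Cfsg.Agent.FischerM24
open Cfsg.Agent.FischerM23 (QL QSet)

variable {G : Type*} [Group G] [Finite G] {D : Set G}

/-- The derived group is simple of the order of Fi24'. -/
theorem derived_fi24 (S : Fi24Setup D) (hZ : Subgroup.center G = ⊥) :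
    (commutator G).index = 2 ∧ Cfsg.IsFi24' ↥(commutator G) := by
  obtain ⟨hlay, hi⟩ := layer_eq_commutator S
  obtain ⟨L, hL, hLn, he⟩ := exists_component S.cls S.two_members S.cores
  have hLc : L = commutator G := he.symm.trans hlay
  have hn : ((Subgroup.center ↥L).map L.subtype).Normal := by
    haveI := hLn
    infer_instance
  have hs : Group.IsSolvable ↥((Subgroup.center ↥L).map L.subtype) := by
    refine Group.isSolvable_of_comm fun a b => ?_
    obtain ⟨_, x, hx, rfl⟩ := a
    obtain ⟨_, y, hy, rfl⟩ := b
    exact Subtype.ext (congrArg L.subtype (Subgroup.mem_center_iff.1 hy x))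
  have hz : Subgroup.center ↥L = ⊥ := by
    haveI := hn
    have h := solvable_normal_le_center S.grp S.cores hs
    rw [hZ, le_bot_iff, Subgroup.map_eq_bot_iff_of_injective _ L.subtype_injective] at h
    exact h
  subst hLc
  haveI := hL.2.2
  refine ⟨hi, ((QuotientGroup.quotientMulEquivOfEq hz).trans QuotientGroup.quotientBot).symm.isSimpleGroup, ?_⟩
  have h := Subgroup.card_mul_index (commutator G)
  rw [hi, group_card S] at h
  omega

/-- A copy of Fi23 in the even part of the centraliser of a member. -/
theorem local_fi23 (S : Fi24Setup D) {a : G} (ha : a ∈ D) :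
    ∃ K : Subgroup G, K ≤ Subgroup.centralizer ({a} : Set G) ∧ K ≤ commutator G ∧ Cfsg.IsFi23 ↥K := by
  obtain ⟨χ, hχ⟩ := exists_parity S
  have hker : χ.ker = commutator G := by
    have hle : commutator G ≤ χ.ker := Abelianization.commutator_subset_ker χ
    have hi := (layer_eq_commutator S).2
    have hd := Subgroup.index_dvd_of_le hle
    rw [hi, Nat.dvd_prime Nat.prime_two] at hd
    rcases hd with h | h
    · have := MonoidHom.mem_ker.1 (Subgroup.index_eq_one.1 h ▸ Subgroup.mem_top a)
      rw [hχ a ha] at this
      exact absurd this (by decide)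
    · refine (Subgroup.eq_of_le_of_card_ge hle (le_of_eq ?_)).symm
      have e1 := Subgroup.card_mul_index χ.ker
      have e2 := Subgroup.card_mul_index (commutator G)
      rw [h] at e1
      rw [hi] at e2
      omega
  let f : ↥(χ.ker.subgroupOf (Loc D a)) →* QL D a :=
    (QuotientGroup.mk' (Subgroup.center ↥(Loc D a))).comp (χ.ker.subgroupOf (Loc D a)).subtype
  have hinj : Function.Injective f := by
    rw [← MonoidHom.ker_eq_bot_iff, eq_bot_iff]
    rintro ⟨x, hx⟩ hf
    have hc : x ∈ Subgroup.center ↥(Loc D a) := (QuotientGroup.eq_one_iff _).1 hf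
    rcases (mem_center_loc_iff S ha x).1 hc with h | h
    · exact Subgroup.mem_bot.2 (Subtype.ext (Subtype.ext h))
    · have : χ (x : G) = 1 := hx
      rw [h, hχ a ha] at this
      exact absurd this (by decide)
  have hsurj : Function.Surjective f := by
    intro q
    obtain ⟨x, rfl⟩ := QuotientGroup.mk'_surjective _ q
    rcases Int.units_eq_one_or (χ (x : G)) with h | h
    · exact ⟨⟨x, h⟩, rfl⟩
    · let a' : ↥(Loc D a) := ⟨a, mem_loc_self S ha⟩
      refine ⟨⟨x * a', ?_⟩, ?_⟩
      · show χ ((x : G) * a) = 1
        rw [map_mul, h, hχ a ha]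
        rfl
      · have hc : a' ∈ Subgroup.center ↥(Loc D a) := (mem_center_loc_iff S ha a').2 (Or.inr rfl)
        show QuotientGroup.mk' _ (x * a') = QuotientGroup.mk' _ x
        rw [map_mul, show QuotientGroup.mk' (Subgroup.center ↥(Loc D a)) a' = 1 from
          (QuotientGroup.eq_one_iff _).2 hc, mul_one]
  let e := MulEquiv.ofBijective f ⟨hinj, hsurj⟩
  let j := Subgroup.equivMapOfInjective (χ.ker.subgroupOf (Loc D a)) (Loc D a).subtype
    (Loc D a).subtype_injective
  haveI := FischerM23.isSimpleGroup (S.localSetup ha)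
  refine ⟨_, ?_, ?_, (j.symm.trans e).isSimpleGroup, ?_⟩
  · rw [centralizer_eq_loc S ha]
    exact Subgroup.map_subtype_le _
  · rw [← hker, Subgroup.subgroupOf_map_subtype]
    exact inf_le_left
  · rw [Nat.card_congr (j.symm.trans e).toEquiv, FischerM23.group_card (S.localSetup ha)]

end Cfsg.Agent.FiHeld
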